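import Groth.Agent.CatLib.CM
import Groth.Agent.CatLib.Flat
import Groth.Prelude.Def_SGA2

/-!
# Relative codimensions along faithfully flat maps out of Cohen–Macaulay rings
-/

set_option autoImplicit false
set_option backward.isDefEq.respectTransparency false
set_option backward.isDefEq.respectTransparency.types false
set_option linter.style.haveILetI false

universe u

open IsLocalRing

namespace DeltaFFLib

variable {A A' : Type u} [CommRing A] [CommRing A']

/-- Heights above a prime add to at most the height. -/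
theorem height_Ici_add_le (s q : PrimeSpectrum A) (h : s ≤ q) :
    Order.height (⟨q, h⟩ : Set.Ici s) + Order.height s ≤ Order.height q := by
  rcases eq_or_ne (Order.height q) ⊤ with hq | hq
  · rw [hq]; exact le_top
  have h1 : Order.height (⟨q, h⟩ : Set.Ici s) ≠ ⊤ := ne_top_of_le_ne_top hq
    (Order.height_le_height_apply_of_strictMono _ (Subtype.strictMono_coe _) _)
  have h2 : Order.height s ≠ ⊤ := ne_top_of_le_ne_top hq (Order.height_mono h)
  obtain ⟨a, ha⟩ := ENat.ne_top_iff_exists.1 h1
  obtain ⟨b, hb⟩ := ENat.ne_top_iff_exists.1 h2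
  obtain ⟨l, hl, hln⟩ := Order.exists_series_of_height_eq_coe _ ha.symm
  obtain ⟨u, hu, hun⟩ := Order.exists_series_of_height_eq_coe _ hb.symm
  let l' : LTSeries (PrimeSpectrum A) := l.map Subtype.val (Subtype.strictMono_coe _)
  have hlast : l'.last = q := by rw [LTSeries.last_map, hl]
  rcases (show s ≤ l'.head from (l.head).2).eq_or_lt with he | he
  · let w := u.smash l' (hu.trans he)
    have hw := Order.length_le_height_last (p := w)
    rw [RelSeries.last_smash, hlast] at hw
    refine le_of_eq_of_le ?_ hw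
    rw [← ha, ← hb, ← hln, ← hun, ← Nat.cast_add, add_comm]
    rfl
  · let l'' := l'.cons s he
    let w := u.smash l'' (hu.trans (RelSeries.head_cons _ _ _).symm)
    have hw := Order.length_le_height_last (p := w)
    rw [RelSeries.last_smash, RelSeries.last_cons, hlast] at hw
    refine le_trans ?_ hw
    rw [← ha, ← hb, ← hln, ← hun, ← Nat.cast_add, Nat.cast_le]
    show l.length + u.length ≤ u.length + l''.length
    have : l''.length = l.length + 1 := by
      show 0 + l'.length + 1 = l.length + 1
      rw [zero_add]; rfl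
    omega

/-- The dimension of the localization modulo the extension of a prime bounds the height above that prime. -/
theorem dim_quotient_le_height_Ici (s q : PrimeSpectrum A) (h : s ≤ q) :
    ringKrullDim (Localization.AtPrime q.asIdeal ⧸ s.asIdeal.map (algebraMap A (Localization.AtPrime q.asIdeal))) ≤
      (Order.height (⟨q, h⟩ : Set.Ici s) : WithBot ℕ∞) := by
  let B := Localization.AtPrime q.asIdeal
  let I := s.asIdeal.map (algebraMap A B)
  have key : ∀ x : PrimeSpectrum (B ⧸ I),
      s ≤ CatLib.locEmb q.asIdeal.primeCompl B (CatLib.quotEmb I x) ∧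
        CatLib.locEmb q.asIdeal.primeCompl B (CatLib.quotEmb I x) ≤ q := fun x => by
    constructor
    · intro z hz
      have h1 : CatLib.quotEmb I x ∈ Set.range (CatLib.quotEmb I) := ⟨_, rfl⟩
      rw [CatLib.range_quotEmb] at h1
      exact h1 (Ideal.mem_map_of_mem _ hz)
    · intro z hz
      have h1 : CatLib.locEmb q.asIdeal.primeCompl B (CatLib.quotEmb I x) ∈
          Set.range (CatLib.locEmb q.asIdeal.primeCompl B) := ⟨_, rfl⟩
      rw [CatLib.range_locEmb] at h1
      by_contra hxr
      exact Set.disjoint_left.1 h1 hxr hz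
  let g : PrimeSpectrum (B ⧸ I) → Set.Ici s := fun x => ⟨_, (key x).1⟩
  have hg : StrictMono g := fun a b hab =>
    ((CatLib.locEmb q.asIdeal.primeCompl B).strictMono.comp (CatLib.quotEmb I).strictMono) hab
  refine iSup_le fun l => ?_
  have h1 := Order.length_le_height (p := l.map g hg) (x := (⟨q, h⟩ : Set.Ici s))
    (by rw [LTSeries.last_map]; exact (key l.last).2)
  exact WithBot.coe_le_coe.2 h1

variable [IsNoetherianRing A] [IsNoetherianRing A'] [Algebra A A'] [Module.Flat A A']

/-- Over a Cohen–Macaulay base every component through a point is at least as big as the base. -/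
theorem dim_le_dim_quotient_minimal (hcm : LocCoh.IsCohenMacaulayRing A) (q : Ideal A) [q.IsPrime]
    (q' : Ideal A') [q'.IsPrime] [q'.LiesOver q] (P : Ideal (Localization.AtPrime q'))
    (hP : P ∈ minimalPrimes (Localization.AtPrime q')) :
    ringKrullDim (Localization.AtPrime q) ≤ ringKrullDim (Localization.AtPrime q' ⧸ P) := by
  let Ap := Localization.AtPrime q
  let BQ := Localization.AtPrime q'
  letI : Algebra Ap BQ := (Localization.localRingHom q q' (algebraMap A A') (Ideal.over_def q' q)).toAlgebra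
  haveI : IsScalarTower A Ap BQ := IsScalarTower.of_algebraMap_eq fun x => by
    rw [RingHom.algebraMap_toAlgebra, Localization.localRingHom_to_map, IsScalarTower.algebraMap_apply A A']
  haveI : IsLocalHom (algebraMap Ap BQ) := Localization.isLocalHom_localRingHom q q' _ _
  haveI : Module.Flat A BQ := Module.Flat.trans A A' BQ
  haveI : Module.Flat Ap BQ := (Module.flat_iff_of_isLocalization Ap q.primeCompl _).2 inferInstance
  haveI : IsNoetherianRing Ap := IsLocalization.isNoetherianRing q.primeCompl _ inferInstance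
  haveI : IsNoetherianRing BQ := IsLocalization.isNoetherianRing q'.primeCompl _ inferInstance
  obtain ⟨rs, hrs, hd⟩ := (CatLib.isCMRing_iff (R := A)).2 hcm q
  rw [hd]
  have hm : ∀ r ∈ rs, r ∈ maximalIdeal Ap := fun r hr => le_maximalIdeal
    (fun hI => hrs.top_ne_smul (by rw [show Ideal.ofList rs = ⊤ from hI]; simp)) (Ideal.subset_span hr)
  have hm' : ∀ r ∈ rs.map (algebraMap Ap BQ), r ∈ maximalIdeal BQ := by
    simp only [List.mem_map, forall_exists_index, and_imp]
    rintro _ r hr rfl
    have hle : (maximalIdeal Ap).map (algebraMap Ap BQ) ≤ maximalIdeal BQ :=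
      ((local_hom_TFAE (algebraMap Ap BQ)).out 0 2).1 ‹_›
    exact hle (Ideal.mem_map_of_mem _ (hm r hr))
  have hreg := RingTheory.Sequence.IsRegular.of_isWeaklyRegular_of_mem_maximalIdeal BQ hm'
    hrs.toIsWeaklyRegular.of_flat
  have hass : P ∈ associatedPrimes BQ BQ := by
    refine Module.associatedPrimes.minimalPrimes_annihilator_subset_associatedPrimes BQ BQ ?_
    rw [show Module.annihilator BQ BQ = ⊥ from Module.annihilator_eq_bot.2 inferInstance]
    exact hP
  have := CommAlgDim.length_le_ringKrullDim_of_mem_associatedPrimes _ BQ hreg P hass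
  rwa [List.length_map] at this

/-- The inequality of relative codimensions. -/
theorem relCodim_le_add (hcm : LocCoh.IsCohenMacaulayRing A) (hcat' : CAlg.IsCatenary A') (I : Ideal A)
    (I' : Ideal A') (hTT : ∀ q : PrimeSpectrum A', I' ≤ q.asIdeal → I ≤ q.asIdeal.comap (algebraMap A A'))
    (s : PrimeSpectrum A) (s' : PrimeSpectrum A') (hs : PrimeSpectrum.comap (algebraMap A A') s' = s) (b : ℕ)
    (hb : SGA2.relCodim I' s' = b) (Qf : PrimeSpectrum (s.asIdeal.Fiber A'))
    (hQf : Qf.asIdeal.comap (Algebra.TensorProduct.includeRight : A' →ₐ[A] s.asIdeal.Fiber A').toRingHom = s'.asIdeal) :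
    SGA2.relCodim I s ≤ b + Qf.asIdeal.height := by
  have hne : Nonempty {q : PrimeSpectrum A' // s' ≤ q ∧ I' ≤ q.asIdeal} := by
    by_contra h
    rw [not_nonempty_iff] at h
    rw [SGA2.relCodim, iInf_of_empty] at hb
    exact ENat.coe_ne_top b hb.symm
  obtain ⟨⟨q', hsq', hIq'⟩, hq'⟩ := ciInf_mem
    (fun q : {q : PrimeSpectrum A' // s' ≤ q ∧ I' ≤ q.asIdeal} => Order.height (⟨q.1, q.2.1⟩ : Set.Ici s'))
  rw [SGA2.relCodim] at hb
  rw [hb] at hq'
  beta_reduce at hq'
  let q := PrimeSpectrum.comap (algebraMap A A') q'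
  have hsq : s ≤ q := hs ▸ Ideal.comap_mono hsq'
  have ha : SGA2.relCodim I s ≤ Order.height (⟨q, hsq⟩ : Set.Ici s) :=
    iInf_le (fun p : {p : PrimeSpectrum A // s ≤ p ∧ I ≤ p.asIdeal} => Order.height (⟨p.1, p.2.1⟩ : Set.Ici s))
      ⟨q, hsq, hTT q' hIq'⟩
  have h1 := height_Ici_add_le s q hsq
  -- the component
  let B := Localization.AtPrime q'.asIdeal
  haveI : IsNoetherianRing B := IsLocalization.isNoetherianRing q'.asIdeal.primeCompl _ inferInstance
  let S := s'.asIdeal.map (algebraMap A' B)
  have hdisj : Disjoint (q'.asIdeal.primeCompl : Set A') s'.asIdeal :=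
    Set.disjoint_left.2 fun x hx hxs => hx (hsq' hxs)
  haveI : S.IsPrime := IsLocalization.isPrime_of_isPrime_disjoint q'.asIdeal.primeCompl B _ s'.2 hdisj
  have hSc : S.comap (algebraMap A' B) = s'.asIdeal :=
    IsLocalization.comap_map_of_isPrime_disjoint q'.asIdeal.primeCompl _ s'.2 hdisj
  obtain ⟨P, hP, hPS⟩ := Ideal.exists_minimalPrimes_le (I := (⊥ : Ideal B)) (J := S) bot_le
  haveI := hP.1.1
  haveI : q'.asIdeal.LiesOver q.asIdeal := ⟨rfl⟩
  have h2 : (q.asIdeal.height : WithBot ℕ∞) ≤ ringKrullDim (B ⧸ P) := by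
    rw [← IsLocalization.AtPrime.ringKrullDim_eq_height q.asIdeal (Localization.AtPrime q.asIdeal)]
    exact dim_le_dim_quotient_minimal hcm q.asIdeal q'.asIdeal P hP
  haveI : IsLocalRing (B ⧸ P) := IsLocalRing.of_surjective' _ Ideal.Quotient.mk_surjective
  let S' := S.map (Ideal.Quotient.mk P)
  haveI : S'.IsPrime := Ideal.map_isPrime_of_surjective Ideal.Quotient.mk_surjective (by rw [Ideal.mk_ker]; exact hPS)
  have h3 := CatLib.ringKrullDim_quotient_add_height_of_domain
    (CatLib.isCatenary_quotient P (CatLib.isCatenary_localization q'.asIdeal.primeCompl B hcat')) S'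
  rw [CatLib.ringKrullDim_quotient_quotient_map hPS] at h3
  have h4 := dim_quotient_le_height_Ici s' q' hsq'
  rw [hq'] at h4
  have h5 : S'.height ≤ s'.asIdeal.height := by
    have h : S'.height ≤ S.height := by
      have := Order.height_le_height_apply_of_strictMono (CatLib.quotEmb P) (CatLib.quotEmb P).strictMono
        (⟨S', inferInstance⟩ : PrimeSpectrum (B ⧸ P))
      rw [← PrimeSpectrum.height_eq_orderHeight, ← PrimeSpectrum.height_eq_orderHeight] at this
      change S'.height ≤ (S'.comap (Ideal.Quotient.mk P)).height at this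
      rwa [Ideal.comap_map_of_surjective _ Ideal.Quotient.mk_surjective, ← RingHom.ker_eq_comap_bot,
        Ideal.mk_ker, sup_eq_left.2 hPS] at this
    refine h.trans (le_of_eq ?_)
    rw [← IsLocalization.height_under q'.asIdeal.primeCompl S, Ideal.under_def, hSc]
  -- the height in the fibre
  haveI : s'.asIdeal.LiesOver s.asIdeal := ⟨congrArg PrimeSpectrum.asIdeal hs.symm⟩
  have h6 : s'.asIdeal.height ≤ s.asIdeal.height + Qf.asIdeal.height := by
    refine (Ideal.height_le_height_add_of_liesOver s.asIdeal s'.asIdeal).trans (add_le_add le_rfl ?_)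
    set J := s.asIdeal.map (algebraMap A A') with hJ
    have hJs : J ≤ s'.asIdeal := Ideal.map_le_iff_le_comap.2 (le_of_eq (Ideal.over_def s'.asIdeal s.asIdeal))
    haveI : (s'.asIdeal.map (Ideal.Quotient.mk J)).IsPrime :=
      Ideal.map_isPrime_of_surjective Ideal.Quotient.mk_surjective (by rw [Ideal.mk_ker]; exact hJs)
    let x : PrimeSpectrum (A' ⧸ J) := ⟨s'.asIdeal.map (Ideal.Quotient.mk J), inferInstance⟩
    have hx : CatLib.quotEmb J x = s' := by
      refine PrimeSpectrum.ext ?_
      show (s'.asIdeal.map (Ideal.Quotient.mk J)).comap (Ideal.Quotient.mk J) = s'.asIdeal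
      rw [Ideal.comap_map_of_surjective _ Ideal.Quotient.mk_surjective, ← RingHom.ker_eq_comap_bot, Ideal.mk_ker]
      exact sup_eq_left.2 hJs
    show x.asIdeal.height ≤ _
    rw [PrimeSpectrum.height_eq_orderHeight, PrimeSpectrum.height_eq_orderHeight]
    refine Order.height_le fun l hl => ?_
    have hover : ∀ i, CatLib.quotEmb J (l i) ∈ PrimeSpectrum.comap (algebraMap A A') ⁻¹' {s} := fun i => by
      refine le_antisymm ?_ fun z hz => ?_
      · rw [← hs, ← hx, ← hl]
        exact Ideal.comap_mono ((CatLib.quotEmb J).monotone (l.monotone (Fin.le_last i)))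
      · have h1 : CatLib.quotEmb J (l i) ∈ Set.range (CatLib.quotEmb J) := ⟨_, rfl⟩
        rw [CatLib.range_quotEmb] at h1
        exact h1 (Ideal.mem_map_of_mem _ hz)
    let e := PrimeSpectrum.preimageOrderIsoFiber A A' s
    let l' : LTSeries (PrimeSpectrum (s.asIdeal.Fiber A')) :=
      LTSeries.mk l.length (fun i => e ⟨_, hover i⟩)
        fun i j hij => e.strictMono (show CatLib.quotEmb J (l i) < CatLib.quotEmb J (l j) from
          (CatLib.quotEmb J).strictMono (l.strictMono hij))
    refine Order.length_le_height (p := l') (le_of_eq ?_)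
    show e ⟨_, hover (Fin.last l.length)⟩ = Qf
    rw [← OrderIso.eq_symm_apply]
    refine Subtype.ext ?_
    show CatLib.quotEmb J l.last = _
    rw [hl, hx]
    exact PrimeSpectrum.ext hQf.symm
  -- arithmetic
  obtain ⟨hqn, hqn'⟩ := ENat.ne_top_iff_exists.1 (Ideal.height_ne_top q.2.ne_top : q.asIdeal.height ≠ ⊤)
  obtain ⟨hsn, hsn'⟩ := ENat.ne_top_iff_exists.1 (Ideal.height_ne_top s.2.ne_top : s.asIdeal.height ≠ ⊤)
  rw [← PrimeSpectrum.height_eq_orderHeight, ← PrimeSpectrum.height_eq_orderHeight] at h1
  have h7 : ringKrullDim (B ⧸ P) ≤ ((b : ℕ∞) + s'.asIdeal.height : ℕ∞) := by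
    rw [← h3, WithBot.coe_add]
    exact add_le_add h4 (WithBot.coe_le_coe.2 h5)
  have h8 : q.asIdeal.height ≤ (b : ℕ∞) + (s.asIdeal.height + Qf.asIdeal.height) :=
    (WithBot.coe_le_coe.1 (h2.trans h7)).trans (add_le_add le_rfl h6)
  have h9 : SGA2.relCodim I s + s.asIdeal.height ≤ (b : ℕ∞) + Qf.asIdeal.height + s.asIdeal.height :=
    ((add_le_add ha le_rfl).trans h1).trans (h8.trans (le_of_eq (by abel)))
  exact (ENat.add_le_add_iff_right (Ideal.height_ne_top s.2.ne_top)).1 h9

end DeltaFFLib
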