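import Groth.Agent.FibDimLib.Formula

/-!
# The dimension of a base change of a field extension at a prime
-/

set_option autoImplicit false
set_option backward.isDefEq.respectTransparency false
set_option backward.isDefEq.respectTransparency.types false
set_option maxHeartbeats 800000

universe u

open TensorProduct MvPolynomial

namespace DeltaFFLib

theorem height_add_le_of_series {α : Type u} [Preorder α] {a : α} {h : ℕ} {N : ℕ∞}
    (H : ∀ l : LTSeries α, l.last = a → ((l.length + h : ℕ) : ℕ∞) ≤ N) : Order.height a + h ≤ N := by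
  rcases eq_or_ne (Order.height a) ⊤ with ha | ha
  · refine le_of_le_of_eq le_top (ENat.eq_top_iff_forall_ge.2 fun n => ?_).symm
    obtain ⟨l, hl, hn⟩ := Order.exists_series_of_le_height a (n := n) (ha ▸ le_top)
    exact le_trans (by rw [← hn]; exact_mod_cast Nat.le_add_right l.length h) (H l hl)
  · obtain ⟨n, hn⟩ := ENat.ne_top_iff_exists.1 ha
    obtain ⟨l, hl, hln⟩ := Order.exists_series_of_height_eq_coe a hn.symm
    rw [← hn, ← hln]
    exact_mod_cast H l hl

section Poly

variable {B : Type u} [CommRing B] {σ : Type u} (Q : Ideal B) [Q.IsPrime]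

/-- Denominators of a polynomial over a residue field can be cleared. -/
theorem exists_clear (x : MvPolynomial σ Q.ResidueField) :
    ∃ b ∉ Q, ∃ y : MvPolynomial σ B,
      MvPolynomial.map (algebraMap B Q.ResidueField) y = MvPolynomial.C (algebraMap B Q.ResidueField b) * x := by
  induction x using MvPolynomial.induction_on with
  | C l =>
    obtain ⟨a, b, hb, rfl⟩ := IsFractionRing.div_surjective (A := B ⧸ Q) l
    obtain ⟨a, rfl⟩ := Ideal.Quotient.mk_surjective a
    obtain ⟨b, rfl⟩ := Ideal.Quotient.mk_surjective b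
    have hbQ : b ∉ Q := fun h => nonZeroDivisors.ne_zero hb (Ideal.Quotient.eq_zero_iff_mem.2 h)
    refine ⟨b, hbQ, MvPolynomial.C a, ?_⟩
    rw [MvPolynomial.map_C, ← MvPolynomial.C_mul]
    congr 1
    have hb0 : algebraMap B Q.ResidueField b ≠ 0 := fun h => hbQ (Ideal.algebraMap_residueField_eq_zero.1 h)
    show algebraMap B Q.ResidueField a =
      algebraMap B Q.ResidueField b * (algebraMap B Q.ResidueField a / algebraMap B Q.ResidueField b)
    rw [mul_div_cancel₀ _ hb0]
  | add p q hp hq =>
    obtain ⟨b, hb, y, hy⟩ := hp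
    obtain ⟨c, hc, z, hz⟩ := hq
    refine ⟨b * c, fun h => ((inferInstance : Q.IsPrime).mem_or_mem h).elim hb hc, C c * y + C b * z, ?_⟩
    simp only [map_add, map_mul, MvPolynomial.map_C, hy, hz]
    ring
  | mul_X p i hp =>
    obtain ⟨b, hb, y, hy⟩ := hp
    exact ⟨b, hb, y * X i, by rw [map_mul, MvPolynomial.map_X, hy, mul_assoc]⟩

theorem strictMono_comap_map :
    StrictMono (PrimeSpectrum.comap (MvPolynomial.map (algebraMap B Q.ResidueField) :
      MvPolynomial σ B →+* MvPolynomial σ Q.ResidueField)) := by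
  refine Monotone.strictMono_of_injective (fun p q h => Ideal.comap_mono h) fun p q h => ?_
  refine PrimeSpectrum.ext (Ideal.ext fun x => ?_)
  obtain ⟨b, hb, y, hy⟩ := exists_clear Q x
  have hu : IsUnit (C (algebraMap B Q.ResidueField b) : MvPolynomial σ Q.ResidueField) :=
    (Ne.isUnit fun h => hb (Ideal.algebraMap_residueField_eq_zero.1 h)).map C
  have key : ∀ r : PrimeSpectrum (MvPolynomial σ Q.ResidueField),
      x ∈ r.asIdeal ↔ y ∈ (PrimeSpectrum.comap (MvPolynomial.map (algebraMap B Q.ResidueField)) r).asIdeal := fun r => by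
    rw [PrimeSpectrum.comap_asIdeal, Ideal.mem_comap, hy, Ideal.unit_mul_mem_iff_mem _ hu]
  rw [key p, key q, h]

theorem comap_map_over (p : PrimeSpectrum (MvPolynomial σ Q.ResidueField)) :
    (PrimeSpectrum.comap (MvPolynomial.map (algebraMap B Q.ResidueField)) p).asIdeal.comap
      (algebraMap B (MvPolynomial σ B)) = Q := by
  ext b
  rw [PrimeSpectrum.comap_asIdeal, Ideal.mem_comap, Ideal.mem_comap, MvPolynomial.algebraMap_eq, MvPolynomial.map_C]
  refine ⟨fun h => by_contra fun hb => p.2.ne_top (Ideal.eq_top_of_isUnit_mem _ h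
    ((Ne.isUnit fun h0 => hb (Ideal.algebraMap_residueField_eq_zero.1 h0)).map C)), fun h => ?_⟩
  rw [Ideal.algebraMap_residueField_eq_zero.2 h, map_zero]
  exact zero_mem _

end Poly

variable {k B K : Type u} [Field k] [CommRing B] [Algebra k B] [Field K] [Algebra k K]

theorem flat_of_fields {F E : Type u} [Field F] [Field E] (g : F →+* E) : g.Flat := by
  letI := g.toAlgebra
  exact RingHom.flat_algebraMap_iff.2 inferInstance

theorem flat_of_injective {R E : Type u} [CommRing R] [IsDomain R] [Field E] (F : Type u) [Field F] [Algebra R F]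
    [IsFractionRing R F] (f : R →+* E) (hf : Function.Injective f) : f.Flat := by
  have h2 : (algebraMap R F).Flat :=
    RingHom.flat_algebraMap_iff.2 (IsLocalization.flat F (nonZeroDivisors R))
  have h := RingHom.Flat.comp h2 (flat_of_fields (IsFractionRing.lift (K := F) hf))
  rwa [show (IsFractionRing.lift (K := F) hf).comp (algebraMap R F) = f from
    RingHom.ext fun x => IsFractionRing.lift_algebraMap hf x] at h

theorem flat_aeval {σ : Type u} {t : σ → K} (ht : AlgebraicIndependent k t) :
    (aeval t : MvPolynomial σ k →ₐ[k] K).toRingHom.Flat :=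
  flat_of_injective (FractionRing (MvPolynomial σ k)) _ ht

theorem trdeg_ker_le {L A E : Type u} [Field L] [CommRing A] [Algebra L A] [Field E] [Algebra L E] (f : A →ₐ[L] E)
    (p : Ideal A) [p.IsPrime] (hp : p = RingHom.ker f.toRingHom) :
    Algebra.trdeg L p.ResidueField ≤ Algebra.trdeg L E := by
  let g : p.ResidueField →+* E := Ideal.ResidueField.lift p f.toRingHom (le_of_eq hp)
    fun x hx => Ne.isUnit fun h => hx (hp ▸ h)
  let g' : p.ResidueField →ₐ[L] E := { g with commutes' := fun l => (by
    show g (algebraMap L p.ResidueField l) = _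
    rw [IsScalarTower.algebraMap_apply L A p.ResidueField]
    exact (Ideal.ResidueField.lift_algebraMap _ _ _ _ _).trans (f.commutes l)) }
  exact trdeg_le_of_injective g' g'.toRingHom.injective

/-- The dimension of `K ⊗ B` at a prime is at least that of `B` plus the drop of transcendence degree. -/
theorem height_add_le (r r' : ℕ) (hr : Algebra.trdeg k K = r) (P : Ideal (B ⊗[k] K)) [P.IsPrime]
    (Q : Ideal B) [Q.IsPrime] (hQ : Q = P.comap (algebraMap B (B ⊗[k] K)))
    (hr' : @Algebra.trdeg Q.ResidueField P.ResidueField _ _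
      (Ideal.ResidueField.map Q P (algebraMap B (B ⊗[k] K)) hQ).toAlgebra = r') :
    Q.height + r ≤ P.height + r' := by
  obtain ⟨s, hs⟩ := exists_isTranscendenceBasis k K
  have hcard : Cardinal.mk s = r := hs.cardinalMk_eq_trdeg.trans hr
  haveI : Finite s := Cardinal.lt_aleph0_iff_finite.1 (hcard ▸ Cardinal.natCast_lt_aleph0)
  haveI := Fintype.ofFinite s
  let ι : MvPolynomial s k →ₐ[k] K := aeval (fun i : s => (i : K))
  have hι : ι.toRingHom.Flat := flat_aeval hs.1
  let m : B ⊗[k] MvPolynomial s k →ₐ[B] B ⊗[k] K := Algebra.TensorProduct.map (AlgHom.id B B) ι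
  let ψ : MvPolynomial s B →ₐ[B] B ⊗[k] K :=
    m.comp (MvPolynomial.algebraTensorAlgEquiv k B).symm.toAlgHom
  have hψ : ψ.toRingHom.Flat :=
    RingHom.Flat.comp (RingHom.Flat.of_bijective (MvPolynomial.algebraTensorAlgEquiv k B).symm.bijective)
      (RingHom.Flat.tensorProductMap (RingHom.Flat.of_bijective Function.bijective_id) hι)
  let L := Q.ResidueField
  let E := P.ResidueField
  let e := Ideal.ResidueField.map Q P (algebraMap B (B ⊗[k] K)) hQ
  letI : Algebra L E := e.toAlgebra
  let ψ0 : MvPolynomial s L →ₐ[L] E := aeval fun i => algebraMap (B ⊗[k] K) E (ψ (X i))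
  let φ : MvPolynomial s B →+* MvPolynomial s L := MvPolynomial.map (algebraMap B L)
  have hcomm : ψ0.toRingHom.comp φ = (algebraMap (B ⊗[k] K) E).comp ψ.toRingHom := by
    refine MvPolynomial.ringHom_ext (fun b => ?_) fun i => ?_
    · show ψ0 (φ (C b)) = algebraMap (B ⊗[k] K) E (ψ (C b))
      rw [MvPolynomial.map_C, ← MvPolynomial.algebraMap_eq, ← MvPolynomial.algebraMap_eq, AlgHom.commutes,
        AlgHom.commutes]
      exact Ideal.ResidueField.map_algebraMap _ _ _ _ b
    · show ψ0 (φ (X i)) = algebraMap (B ⊗[k] K) E (ψ (X i))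
      rw [MvPolynomial.map_X]
      exact aeval_X _ i
  let p0 : PrimeSpectrum (MvPolynomial s L) := ⟨RingHom.ker ψ0.toRingHom, RingHom.ker_isPrime _⟩
  have hp0 : PrimeSpectrum.comap φ p0 = PrimeSpectrum.comap ψ.toRingHom ⟨P, inferInstance⟩ := by
    refine PrimeSpectrum.ext (Ideal.ext fun y => ?_)
    show ψ0 (φ y) = 0 ↔ ψ y ∈ P
    rw [show ψ0 (φ y) = algebraMap (B ⊗[k] K) E (ψ y) from RingHom.congr_fun hcomm y,
      Ideal.algebraMap_residueField_eq_zero]
  -- the height in the polynomial ring over the residue field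
  obtain ⟨c, hc, hc'⟩ := FibDimLib.ringKrullDim_quotient_eq_trdeg L p0.asIdeal
  have hcr : c ≤ r' := by
    have h := trdeg_ker_le ψ0 p0.asIdeal rfl
    rw [hc', hr'] at h
    exact_mod_cast h
  have hh := FibDimLib.ringKrullDim_quotient_add_height_affine L (MvPolynomial s L) p0.asIdeal
  obtain ⟨h, hht⟩ := ENat.ne_top_iff_exists.1 (Ideal.height_ne_top p0.2.ne_top : p0.asIdeal.height ≠ ⊤)
  rw [hc, MvPolynomial.ringKrullDim_of_isNoetherianRing, ringKrullDim_eq_zero_of_field, zero_add, ← hht,
    Nat.card_eq_fintype_card] at hh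
  have hsr : Fintype.card s = r := by
    have := hcard; rw [Cardinal.mk_fintype] at this; exact_mod_cast this
  rw [hsr] at hh
  replace hh : c + h = r := by exact_mod_cast hh
  -- the chain
  obtain ⟨l0, hl0, hl0n⟩ := Order.exists_series_of_height_eq_coe p0
    ((PrimeSpectrum.height_eq_orderHeight p0).symm.trans hht.symm)
  let l1 := l0.map _ (strictMono_comap_map (σ := s) Q)
  haveI : Algebra.HasGoingDown B (MvPolynomial s B) := Algebra.HasGoingDown.of_flat
  letI : Algebra (MvPolynomial s B) (B ⊗[k] K) := ψ.toRingHom.toAlgebra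
  haveI : Module.Flat (MvPolynomial s B) (B ⊗[k] K) := hψ
  haveI : Algebra.HasGoingDown (MvPolynomial s B) (B ⊗[k] K) := Algebra.HasGoingDown.of_flat
  have key : (Q.height : ℕ∞) + h ≤ P.height := by
    rw [show Q.height = Order.height (⟨Q, inferInstance⟩ : PrimeSpectrum B) from
      PrimeSpectrum.height_eq_orderHeight (R := B) ⟨Q, inferInstance⟩,
      show P.height = Order.height (⟨P, inferInstance⟩ : PrimeSpectrum (B ⊗[k] K)) from
      PrimeSpectrum.height_eq_orderHeight (R := B ⊗[k] K) ⟨P, inferInstance⟩]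
    refine height_add_le_of_series fun l hl => ?_
    haveI : l1.head.asIdeal.LiesOver l.last.asIdeal := ⟨by
      rw [hl]
      show Q = Ideal.comap (algebraMap B (MvPolynomial s B)) l1.head.asIdeal
      rw [LTSeries.head_map, comap_map_over Q]⟩
    obtain ⟨L', hL'n, hL'l, -⟩ := Ideal.exists_ltSeries_of_hasGoingDown l l1.head.asIdeal
    let m' := L'.smash l1 hL'l
    have hm' : m'.last = PrimeSpectrum.comap ψ.toRingHom ⟨P, inferInstance⟩ := by
      rw [RelSeries.last_smash, LTSeries.last_map, hl0, hp0]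
    haveI : P.LiesOver m'.last.asIdeal := ⟨by rw [hm']; rfl⟩
    obtain ⟨M, hMn, hMl, -⟩ := Ideal.exists_ltSeries_of_hasGoingDown m' P
    refine le_of_eq_of_le ?_ (hMl ▸ Order.length_le_height_last (p := M))
    have hlen : m'.length = l.length + h := by
      show L'.length + l1.length = _
      rw [hL'n]; exact congrArg _ hl0n
    rw [hMn, hlen]
  calc Q.height + (r : ℕ∞) = Q.height + (h : ℕ∞) + (c : ℕ∞) := by rw [← hh, Nat.cast_add, add_assoc, add_comm (c : ℕ∞)]
    _ ≤ P.height + (r' : ℕ∞) := add_le_add key (by exact_mod_cast hcr)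

end DeltaFFLib
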