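import Groth.Agent.DeltaFFLib.Fibre
import Groth.Agent.DeltaFFLib.Base
import Groth.Agent.CycPushLib.Closed
import Groth.Agent.EdFibLib.Space
import Groth.Prelude.Def_CInt
import Groth.Prelude.Def_Dual3

/-!
# The defect of transcendence degree and relative codimension at a point of a base change
-/

set_option autoImplicit false
set_option backward.isDefEq.respectTransparency false
set_option backward.isDefEq.respectTransparency.types false
set_option linter.style.haveILetI false
set_option maxHeartbeats 1000000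

universe u

open CategoryTheory CategoryTheory.Limits AlgebraicGeometry TensorProduct

noncomputable section

namespace DeltaFFLib

theorem resTrdeg_Spec {R C : Type u} [CommRing R] [CommRing C] (h : R →+* C) (P : PrimeSpectrum C)
    (Q : Ideal R) [Q.IsPrime] (hQ : Q = P.asIdeal.comap h) :
    Dual3.resTrdeg (Spec.map (CommRingCat.ofHom h)) P =
      @Algebra.trdeg Q.ResidueField P.asIdeal.ResidueField _ _ (Ideal.ResidueField.map Q P.asIdeal h hQ).toAlgebra := by
  subst hQ
  let f := Spec.map (CommRingCat.ofHom h)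
  let eR := Scheme.Spec.residueFieldIso (CommRingCat.of R) (f P)
  let eC := Scheme.Spec.residueFieldIso (CommRingCat.of C) P
  let m := Ideal.ResidueField.map (P.asIdeal.comap h) P.asIdeal h rfl
  have hsq : f.residueFieldMap P ≫ eC.hom = eR.hom ≫ CommRingCat.ofHom m := by
    rw [← Iso.inv_comp_eq]
    apply CommRingCat.hom_ext
    refine Ideal.ResidueField.ringHom_ext (RingHom.ext fun r => ?_)
    have key : Spec.map (eR.inv ≫ f.residueFieldMap P ≫ eC.hom) ≫
        Spec.map (CommRingCat.ofHom (algebraMap R (f P).asIdeal.ResidueField)) =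
        Spec.map (CommRingCat.ofHom m) ≫ Spec.map (CommRingCat.ofHom (algebraMap R (P.asIdeal.comap h).ResidueField)) := by
      rw [← Spec.map_comp (CommRingCat.ofHom (algebraMap R (P.asIdeal.comap h).ResidueField)) (CommRingCat.ofHom m),
        Spec.map_comp, Category.assoc, Scheme.Spec.map_residueFieldIso_inv_eq_fromSpecResidueField, Spec.map_comp,
        Category.assoc, Scheme.Hom.SpecMap_residueFieldMap_fromSpecResidueField,
        ← Scheme.Spec.map_residueFieldIso_inv_eq_fromSpecResidueField, ← Category.assoc, ← Category.assoc,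
        ← Spec.map_comp eC.inv eC.hom, eC.inv_hom_id, Spec.map_id, Category.id_comp, ← Spec.map_comp]
      congr 1
      apply CommRingCat.hom_ext
      exact RingHom.ext fun x => (Ideal.ResidueField.map_algebraMap _ _ _ _ x).symm
    rw [← Spec.map_comp, ← Spec.map_comp] at key
    exact RingHom.congr_fun (congrArg CommRingCat.Hom.hom (Spec.map_injective key)) r
  unfold Dual3.resTrdeg
  letI := (f.residueFieldMap P).hom.toAlgebra
  letI := m.toAlgebra
  exact DimFormulaLib.trdeg_congr eR.commRingCatIsoToRingEquiv eC.commRingCatIsoToRingEquiv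
    (congrArg CommRingCat.Hom.hom hsq.symm)

theorem isPreimmersion_residueField {A : Type u} [CommRing A] (s : PrimeSpectrum A) :
    IsPreimmersion (Spec.map (CommRingCat.ofHom (algebraMap A s.asIdeal.ResidueField))) := by
  have h := Scheme.Spec.map_residueFieldIso_inv_eq_fromSpecResidueField (CommRingCat.of A) s
  rw [← IsIso.eq_inv_comp] at h
  rw [h]
  infer_instance

theorem resTrdeg_fiber_incl {A A' : Type u} [CommRing A] [CommRing A'] [Algebra A A'] (s : PrimeSpectrum A)
    (Qf : PrimeSpectrum (s.asIdeal.Fiber A')) :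
    Dual3.resTrdeg (Spec.map (CommRingCat.ofHom
      (Algebra.TensorProduct.includeRight : A' →ₐ[A] s.asIdeal.Fiber A').toRingHom)) Qf = 0 := by
  haveI := isPreimmersion_residueField s
  haveI : IsPreimmersion (Spec.map (CommRingCat.ofHom
      (Algebra.TensorProduct.includeRight : A' →ₐ[A] s.asIdeal.Fiber A').toRingHom)) := by
    have h : IsPreimmersion ((pullbackSpecIso A s.asIdeal.ResidueField A').inv ≫ pullback.snd _ _) := inferInstance
    rw [pullbackSpecIso_inv_snd] at h
    exact h
  exact CycPushLib.trdeg_preimmersion_left _ _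

variable {A A' : Type u} [CommRing A] [CommRing A'] [Algebra A A']

theorem delta_gen {k B K R : Type u} [Field k] [CommRing B] [Algebra k B] [Field K] [Algebra k K] [CommRing R]
    (i : R →+* B) (hi : ∀ Q, Dual3.resTrdeg (Spec.map (CommRingCat.ofHom i)) Q = 0) (P : PrimeSpectrum (B ⊗[k] K))
    (r r' : ℕ) (hr : Algebra.trdeg k K = r)
    (hr' : Dual3.resTrdeg (Spec.map (CommRingCat.ofHom ((algebraMap B (B ⊗[k] K)).comp i))) P = r') :
    (P.asIdeal.comap (algebraMap B (B ⊗[k] K))).height + (r : ℕ∞) ≤ P.asIdeal.height + r' := by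
  refine height_add_le r r' hr P.asIdeal _ rfl ?_
  rw [CommRingCat.ofHom_comp, Spec.map_comp, AlgSpLib.resTrdeg_comp, hi, zero_add] at hr'
  exact (resTrdeg_Spec _ P _ rfl).symm.trans hr'

/-- The algebraic form of the inequality. -/
theorem delta_alg (s : PrimeSpectrum A) {K : Type u} [Field K] [Algebra s.asIdeal.ResidueField K]
    (P : PrimeSpectrum ((s.asIdeal.Fiber A') ⊗[s.asIdeal.ResidueField] K)) (r r' : ℕ)
    (hr : Algebra.trdeg s.asIdeal.ResidueField K = r)
    (hr' : Dual3.resTrdeg (Spec.map (CommRingCat.ofHom (R := A')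
      (S := (s.asIdeal.Fiber A') ⊗[s.asIdeal.ResidueField] K)
      ((algebraMap (s.asIdeal.Fiber A') ((s.asIdeal.Fiber A') ⊗[s.asIdeal.ResidueField] K)).comp
        (Algebra.TensorProduct.includeRight : A' →ₐ[A] s.asIdeal.Fiber A').toRingHom))) P = r') :
    (P.asIdeal.comap (algebraMap (s.asIdeal.Fiber A') ((s.asIdeal.Fiber A') ⊗[s.asIdeal.ResidueField] K))).height +
      (r : ℕ∞) ≤ Ideal.height (R := (s.asIdeal.Fiber A') ⊗[s.asIdeal.ResidueField] K) P.asIdeal + r' := by
  exact delta_gen (Algebra.TensorProduct.includeRight : A' →ₐ[A] s.asIdeal.Fiber A').toRingHom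
    (fun Q => resTrdeg_fiber_incl (A' := A') s Q) P r r' hr hr'

theorem ringKrullDim_stalk_Spec {R : Type u} [CommRing R] (P : PrimeSpectrum R) :
    ringKrullDim ((Spec (CommRingCat.of R)).presheaf.stalk P) = P.asIdeal.height := by
  rw [ringKrullDim_eq_of_ringEquiv (Spec.stalkIso (CommRingCat.of R) P).commRingCatIsoToRingEquiv]
  exact IsLocalization.AtPrime.ringKrullDim_eq_height P.asIdeal _

variable [IsNoetherianRing A] [IsNoetherianRing A'] [Module.Flat A A'] {X : Scheme.{u}}
  (f : X ⟶ Spec (CommRingCat.of A))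

theorem delta_main (hcm : LocCoh.IsCohenMacaulayRing A) (hcat' : CAlg.IsCatenary A') (I : Ideal A) (I' : Ideal A')
    (hTT : ∀ q : PrimeSpectrum A', I' ≤ q.asIdeal → I ≤ q.asIdeal.comap (algebraMap A A'))
    (x' : ↥(pullback f (Spec.map (CommRingCat.ofHom (algebraMap A A'))))) (r r' a b e : ℕ)
    (hr : Dual3.resTrdeg f ((pullback.fst f (Spec.map (CommRingCat.ofHom (algebraMap A A')))).base x') = r)
    (hr' : Dual3.resTrdeg (pullback.snd f (Spec.map (CommRingCat.ofHom (algebraMap A A')))) x' = r')
    (ha : SGA2.relCodim I (f.base ((pullback.fst f (Spec.map (CommRingCat.ofHom (algebraMap A A')))).base x')) = a)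
    (hb : SGA2.relCodim I' ((pullback.snd f (Spec.map (CommRingCat.ofHom (algebraMap A A')))).base x') = b)
    (he : ringKrullDim ↑(CInt.fiberStalk (pullback.fst f (Spec.map (CommRingCat.ofHom (algebraMap A A')))) x') =
      (e : WithBot ℕ∞)) : r + a ≤ r' + b + e := by
  let g := Spec.map (CommRingCat.ofHom (algebraMap A A'))
  let x := (pullback.fst f g).base x'
  let s : PrimeSpectrum A := f.base x
  let s' : PrimeSpectrum A' := (pullback.snd f g).base x'
  have hs : PrimeSpectrum.comap (algebraMap A A') s' = s := by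
    show g.base ((pullback.snd f g).base x') = f.base ((pullback.fst f g).base x')
    rw [← Scheme.Hom.comp_apply, ← Scheme.Hom.comp_apply, pullback.condition]
  let j := X.fromSpecResidueField x
  let φ : A →+* X.residueField x := (Spec.preimage (j ≫ f)).hom
  have hφ : Spec.map (CommRingCat.ofHom φ) = j ≫ f := Spec.map_preimage _
  have hker : RingHom.ker φ = s.asIdeal := by
    have h : (Spec.map (CommRingCat.ofHom φ)).base (IsLocalRing.closedPoint _) = s := by
      rw [hφ, Scheme.Hom.comp_apply]
      exact congrArg f.base (X.fromSpecResidueField_apply x _)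
    refine Eq.trans ?_ (congrArg PrimeSpectrum.asIdeal h)
    show _ = Ideal.comap φ (IsLocalRing.maximalIdeal (X.residueField x))
    rw [IsLocalRing.isField_iff_maximalIdeal_eq.1 (Field.toIsField _), ← RingHom.ker_eq_comap_bot]
  letI : Algebra A (X.residueField x) := φ.toAlgebra
  let ψ : s.asIdeal.ResidueField →+* X.residueField x :=
    Ideal.ResidueField.lift s.asIdeal φ (le_of_eq hker.symm) fun z hz => Ne.isUnit fun h => hz (hker ▸ h)
  letI : Algebra s.asIdeal.ResidueField (X.residueField x) := ψ.toAlgebra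
  haveI : IsScalarTower A s.asIdeal.ResidueField (X.residueField x) :=
    IsScalarTower.of_algebraMap_eq fun z => (Ideal.ResidueField.lift_algebraMap _ _ _ _ z).symm
  let C := (s.asIdeal.Fiber A') ⊗[s.asIdeal.ResidueField] X.residueField x
  let eC : C ≃+* X.residueField x ⊗[A] A' :=
    (Algebra.TensorProduct.comm _ (s.asIdeal.Fiber A') (X.residueField x)).toRingEquiv.trans
      (Algebra.TensorProduct.cancelBaseChange A s.asIdeal.ResidueField (X.residueField x) (X.residueField x) A').toRingEquiv
  let inc : A' →+* C := (algebraMap (s.asIdeal.Fiber A') C).comp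
    (Algebra.TensorProduct.includeRight : A' →ₐ[A] s.asIdeal.Fiber A').toRingHom
  have heC : (RingHomClass.toRingHom eC).comp inc =
      (Algebra.TensorProduct.includeRight : A' →ₐ[A] X.residueField x ⊗[A] A').toRingHom := RingHom.ext fun z => by
    show (Algebra.TensorProduct.cancelBaseChange A s.asIdeal.ResidueField (X.residueField x) (X.residueField x) A')
      ((1 : X.residueField x) ⊗ₜ ((1 : s.asIdeal.ResidueField) ⊗ₜ z)) = _
    rw [Algebra.TensorProduct.cancelBaseChange_tmul, one_smul]
    rfl
  let eS : Spec (CommRingCat.of C) ≅ Spec (CommRingCat.of (X.residueField x ⊗[A] A')) :=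
    Scheme.Spec.mapIso (eC.symm.toCommRingCatIso).op
  let Θ : Spec (CommRingCat.of C) ≅ (pullback.fst f g).fiber x :=
    eS ≪≫ (pullbackSpecIso A (X.residueField x) A').symm ≪≫ pullback.congrHom hφ rfl ≪≫
      (pullbackRightPullbackFstIso f g j).symm ≪≫ pullbackSymmetry _ _
  have hΘ : Θ.hom ≫ (pullback.fst f g).fiberι x ≫ pullback.snd f g = Spec.map (CommRingCat.ofHom (R := A') (S := C) inc) := by
    simp only [Θ, Iso.trans_hom, Iso.symm_hom, Category.assoc, Scheme.Hom.fiberι]
    erw [pullbackSymmetry_hom_comp_fst_assoc, pullbackRightPullbackFstIso_inv_snd_snd, pullback.lift_snd]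
    erw [Category.comp_id, pullbackSpecIso_inv_snd]
    show Spec.map _ ≫ Spec.map _ = _
    rw [← Spec.map_comp]
    congr 1
  let P : PrimeSpectrum C := Θ.inv.base ((pullback.fst f g).asFiber x')
  have hP : Θ.hom.base P = (pullback.fst f g).asFiber x' := by
    show Θ.hom.base (Θ.inv.base _) = _
    rw [← Scheme.Hom.comp_apply, Iso.inv_hom_id]
    rfl
  have hPs : (Spec.map (CommRingCat.ofHom (R := A') (S := C) inc)).base P = s' := by
    rw [← hΘ, Scheme.Hom.comp_apply, Scheme.Hom.comp_apply, hP, Scheme.Hom.fiberι_asFiber]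
  have he' : ((Ideal.height (R := C) P.asIdeal) : WithBot ℕ∞) = e := by
    rw [← ringKrullDim_stalk_Spec, ← he]
    refine (ringKrullDim_eq_of_ringEquiv (asIso (Θ.hom.stalkMap P)).commRingCatIsoToRingEquiv).symm.trans ?_
    exact congrArg (fun p => ringKrullDim (((pullback.fst f g).fiber x).presheaf.stalk p)) hP
  have hr1 : Dual3.resTrdeg (Spec.map (CommRingCat.ofHom (R := A') (S := C) inc)) P = r' := by
    rw [← hΘ, AlgSpLib.resTrdeg_comp, AlgSpLib.resTrdeg_comp, CycPushLib.trdeg_preimmersion_left Θ.hom,
      CycPushLib.trdeg_preimmersion_left ((pullback.fst f g).fiberι x), add_zero, add_zero, hP,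
      Scheme.Hom.fiberι_asFiber]
    exact hr'
  have hr2 : Algebra.trdeg s.asIdeal.ResidueField (X.residueField x) = r := by
    let z : PrimeSpectrum (X.residueField x) := IsLocalRing.closedPoint _
    have h1 : Dual3.resTrdeg (Spec.map (CommRingCat.ofHom φ)) z = r := by
      rw [hφ, AlgSpLib.resTrdeg_comp, CycPushLib.trdeg_preimmersion_left j, add_zero]
      exact (congrArg (Dual3.resTrdeg f) (X.fromSpecResidueField_apply x _)).trans hr
    rw [show φ = ψ.comp (algebraMap A s.asIdeal.ResidueField) from
      RingHom.ext fun w => IsScalarTower.algebraMap_apply A s.asIdeal.ResidueField (X.residueField x) w,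
      CommRingCat.ofHom_comp, Spec.map_comp, AlgSpLib.resTrdeg_comp, EdFibLib.resTrdeg_spec] at h1
    haveI := isPreimmersion_residueField s
    rw [CycPushLib.trdeg_preimmersion_left, zero_add] at h1
    exact h1
  have hA := delta_alg s P r r' hr2 hr1
  let Qf : PrimeSpectrum (s.asIdeal.Fiber A') :=
    ⟨P.asIdeal.comap (algebraMap (s.asIdeal.Fiber A') C), Ideal.comap_isPrime _ _⟩
  have hB := relCodim_le_add hcm hcat' I I' hTT s s' hs b hb Qf
    (by rw [← congrArg PrimeSpectrum.asIdeal hPs]; rfl)
  rw [ha] at hB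
  have he'' : Ideal.height (R := C) P.asIdeal = (e : ℕ∞) := WithBot.coe_injective he'
  rw [he''] at hA
  change Qf.asIdeal.height + (r : ℕ∞) ≤ _ at hA
  obtain ⟨h, hh⟩ := ENat.ne_top_iff_exists.1 (ne_top_of_le_ne_top (b := (e : ℕ∞) + r')
    (by simp) (le_trans le_self_add hA))
  rw [← hh] at hA hB
  have h1 : h + r ≤ e + r' := by exact_mod_cast hA
  have h2 : a ≤ b + h := by exact_mod_cast hB
  omega

end DeltaFFLib
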