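import Groth.Agent.CatLib.Flat
import Groth.Agent.FlatDimLib.Trdeg

/-!
# Flat local homomorphisms with a one-point closed fibre
-/

set_option autoImplicit false
set_option backward.isDefEq.respectTransparency false
set_option backward.isDefEq.respectTransparency.types false

universe u

open IsLocalRing CategoryTheory CategoryTheory.Limits AlgebraicGeometry

namespace DeltaFFLib

variable (A A' : Type u) [CommRing A] [CommRing A'] [IsLocalRing A] [IsLocalRing A'] [IsNoetherianRing A]
  [IsNoetherianRing A'] [Algebra A A'] [Module.FaithfullyFlat A A']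
  (hfib : ∀ q : Ideal A', ∀ _ : q.IsPrime, q.comap (algebraMap A A') = maximalIdeal A → q = maximalIdeal A')

include hfib in
theorem isLocalHom : IsLocalHom (algebraMap A A') := by
  obtain ⟨Q, hQ⟩ := PrimeSpectrum.comap_surjective_of_faithfullyFlat (A := A) (B := A') (closedPoint A)
  have h : Q.asIdeal.comap (algebraMap A A') = maximalIdeal A := congrArg PrimeSpectrum.asIdeal hQ
  refine ((local_hom_TFAE (algebraMap A A')).out 0 4).2 ?_
  rw [← hfib _ Q.2 h, h]

include hfib in
theorem ringKrullDim_map (q : Ideal A) [q.IsPrime] :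
    Nontrivial (A' ⧸ q.map (algebraMap A A')) ∧
      ringKrullDim (A' ⧸ q.map (algebraMap A A')) = ringKrullDim (A ⧸ q) := by
  haveI := isLocalHom A A' hfib
  have hmM : (maximalIdeal A).map (algebraMap A A') ≤ maximalIdeal A' :=
    ((local_hom_TFAE (algebraMap A A')).out 0 2).1 ‹_›
  have hle : q.map (algebraMap A A') ≤ (maximalIdeal A).map (algebraMap A A') :=
    Ideal.map_mono (le_maximalIdeal Ideal.IsPrime.ne_top')
  haveI hnt : Nontrivial (A' ⧸ q.map (algebraMap A A')) := Ideal.Quotient.nontrivial_iff.2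
    (ne_top_of_le_ne_top (maximalIdeal.isMaximal A').ne_top (hle.trans hmM))
  haveI : IsLocalRing (A' ⧸ q.map (algebraMap A A')) := IsLocalRing.of_surjective' _ Ideal.Quotient.mk_surjective
  haveI : IsLocalRing (A ⧸ q) := IsLocalRing.of_surjective' _ Ideal.Quotient.mk_surjective
  haveI : Module.Flat (A ⧸ q) (A' ⧸ q.map (algebraMap A A')) := CatLib.flat_quotient q
  haveI : IsLocalHom (algebraMap (A ⧸ q) (A' ⧸ q.map (algebraMap A A'))) := by
    refine ⟨fun x hx => ?_⟩
    obtain ⟨a, rfl⟩ := Ideal.Quotient.mk_surjective x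
    haveI := IsLocalHom.of_surjective (Ideal.Quotient.mk (q.map (algebraMap A A'))) Ideal.Quotient.mk_surjective
    exact (IsUnit.of_map (algebraMap A A') a (IsUnit.of_map (Ideal.Quotient.mk _) _ hx)).map _
  refine ⟨hnt, ?_⟩
  rw [CatLib.ringKrullDim_eq_add_of_flat (A := A ⧸ q) (B := A' ⧸ q.map (algebraMap A A'))]
  have h2 : (maximalIdeal (A ⧸ q)).map (algebraMap (A ⧸ q) (A' ⧸ q.map (algebraMap A A'))) =
      ((maximalIdeal A).map (algebraMap A A')).map (Ideal.Quotient.mk (q.map (algebraMap A A'))) := by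
    rw [← map_maximalIdeal_of_surjective _ Ideal.Quotient.mk_surjective, Ideal.map_map, Ideal.map_map]
    rfl
  rw [h2, CatLib.ringKrullDim_quotient_quotient_map hle]
  have h0 : ringKrullDim (A' ⧸ (maximalIdeal A).map (algebraMap A A')) = 0 := by
    have hmax : ∀ Q : PrimeSpectrum (A' ⧸ (maximalIdeal A).map (algebraMap A A')),
        Q.asIdeal.comap (Ideal.Quotient.mk _) = maximalIdeal A' := fun Q => by
      refine hfib _ (Ideal.comap_isPrime _ _) ((maximalIdeal.isMaximal A).eq_of_le
        (Ideal.comap_ne_top _ (Ideal.comap_ne_top _ Q.2.ne_top)) ?_).symm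
      rw [← Ideal.map_le_iff_le_comap]
      exact le_of_eq_of_le Ideal.mk_ker.symm (Ideal.comap_mono bot_le)
    haveI : Subsingleton (PrimeSpectrum (A' ⧸ (maximalIdeal A).map (algebraMap A A'))) :=
      ⟨fun P Q => PrimeSpectrum.ext (Ideal.comap_injective_of_surjective _ Ideal.Quotient.mk_surjective
        ((hmax P).trans (hmax Q).symm))⟩
    haveI : Nontrivial (A' ⧸ (maximalIdeal A).map (algebraMap A A')) := Ideal.Quotient.nontrivial_iff.2
      (ne_top_of_le_ne_top (maximalIdeal.isMaximal A').ne_top hmM)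
    exact Order.krullDim_eq_zero
  rw [h0, add_zero]

include hfib in
theorem ringKrullDim_quotient_le (q' : Ideal A') [q'.IsPrime] :
    ringKrullDim (A' ⧸ q') ≤ ringKrullDim (A ⧸ q'.comap (algebraMap A A')) := by
  have h : (q'.comap (algebraMap A A')).map (algebraMap A A') ≤ q' := Ideal.map_comap_le
  rw [← (ringKrullDim_map A A' hfib (q'.comap (algebraMap A A'))).2]
  exact ringKrullDim_le_of_surjective (Ideal.Quotient.factor h) (Ideal.Quotient.factor_surjective h)

include hfib in
theorem exists_over (q : Ideal A) [q.IsPrime] :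
    ∃ q' : PrimeSpectrum A', q'.asIdeal.comap (algebraMap A A') = q ∧
      ringKrullDim (A' ⧸ q'.asIdeal) = ringKrullDim (A ⧸ q) := by
  obtain ⟨hnt, hdim⟩ := ringKrullDim_map A A' hfib q
  haveI := hnt
  haveI : IsLocalRing (A' ⧸ q.map (algebraMap A A')) := IsLocalRing.of_surjective' _ Ideal.Quotient.mk_surjective
  obtain ⟨P, hP, hPd⟩ := CatLib.exists_minimal_dim (R := A' ⧸ q.map (algebraMap A A'))
  have hP' := CatLib.comap_mem_minimalPrimes hP
  refine ⟨⟨_, hP'.1.1⟩, CatLib.under_eq_of_mem_minimalPrimes hP', ?_⟩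
  exact (CatLib.ringKrullDim_quotient_quotient P).symm.trans (hPd.trans hdim)

variable (X : Scheme.{u}) (f : X ⟶ Spec (CommRingCat.of A))

local notation "g'" => Spec.map (CommRingCat.ofHom (algebraMap A A'))

include hfib in
theorem delta_le (x' : ↥(pullback f (Spec.map (CommRingCat.ofHom (algebraMap A A'))))) :
    Dual3.resTrdeg (pullback.snd f (Spec.map (CommRingCat.ofHom (algebraMap A A')))) x' ≤
      Dual3.resTrdeg f (pullback.fst f (Spec.map (CommRingCat.ofHom (algebraMap A A'))) x') ∧
    ringKrullDim (A' ⧸ ((pullback.snd f (Spec.map (CommRingCat.ofHom (algebraMap A A')))).base x').asIdeal) ≤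
      ringKrullDim (A ⧸ (f.base ((pullback.fst f (Spec.map (CommRingCat.ofHom (algebraMap A A')))).base x')).asIdeal) := by
  refine ⟨FlatDimLib.resTrdeg_snd_le x', ?_⟩
  have h : f.base ((pullback.fst f g').base x') = (g').base ((pullback.snd f g').base x') := by
    rw [← Scheme.Hom.comp_apply, ← Scheme.Hom.comp_apply, pullback.condition]
  rw [h]
  exact ringKrullDim_quotient_le A A' hfib _

include hfib in
theorem exists_delta_eq (x : X) : ∃ x' : ↥(pullback f (Spec.map (CommRingCat.ofHom (algebraMap A A')))),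
    (pullback.fst f (Spec.map (CommRingCat.ofHom (algebraMap A A')))).base x' = x ∧
    Dual3.resTrdeg (pullback.snd f (Spec.map (CommRingCat.ofHom (algebraMap A A')))) x' =
      Dual3.resTrdeg f (pullback.fst f (Spec.map (CommRingCat.ofHom (algebraMap A A'))) x') ∧
    ringKrullDim (A' ⧸ ((pullback.snd f (Spec.map (CommRingCat.ofHom (algebraMap A A')))).base x').asIdeal) =
      ringKrullDim (A ⧸ (f.base ((pullback.fst f (Spec.map (CommRingCat.ofHom (algebraMap A A')))).base x')).asIdeal) := by
  obtain ⟨q', hq', hd⟩ := exists_over A A' hfib (f.base x).asIdeal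
  have hy : f x = g' q' := PrimeSpectrum.ext hq'.symm
  obtain ⟨t, hx, hs, ht⟩ := FlatDimLib.exists_resTrdeg_snd_ge (f := f) (g := g') x q' hy
  refine ⟨t, hx, le_antisymm (FlatDimLib.resTrdeg_snd_le t) ?_, ?_⟩
  · rw [hx]; exact ht
  · rw [show (pullback.snd f g').base t = q' from hs, show (pullback.fst f g').base t = x from hx]
    exact hd

end DeltaFFLib
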